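import Mathlib

/-!
Finite facts about `D₈ × D₈` and the wreath product model of a Sylow 2-subgroup of `S₈`.
-/

set_option autoImplicit false

namespace Cfsg.Agent.H42.DWr

open DihedralGroup Equiv

/-- The dihedral group of order 8. -/
abbrev D := DihedralGroup 4

/-- `a` lies in the centre `⟨r 2⟩`. -/
def Cen (a : D) : Prop := a = 1 ∨ a = r 2

instance : DecidablePred Cen := fun a => inferInstanceAs (Decidable (a = 1 ∨ a = r 2))

/-- The two four subgroups of `D₈`. -/
def four (i : ZMod 4) : Subgroup D where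
  carrier := {a | a = 1 ∨ a = r 2 ∨ a = sr i ∨ a = sr (i + 2)}
  mul_mem' := by revert i; decide
  one_mem' := Or.inl rfl
  inv_mem' := by revert i; decide

instance (i : ZMod 4) : DecidablePred (· ∈ four i) := fun a =>
  inferInstanceAs (Decidable (a = 1 ∨ a = r 2 ∨ a = sr i ∨ a = sr (i + 2)))

theorem mem_four {i : ZMod 4} {a : D} : a ∈ four i ↔ a = 1 ∨ a = r 2 ∨ a = sr i ∨ a = sr (i + 2) :=
  Iff.rfl

theorem cen_one : Cen 1 := Or.inl rfl
theorem cen_two : Cen (r 2) := Or.inr rfl

theorem cen_mul : ∀ a b : D, Cen a → Cen b → Cen (a * b) := by decide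
theorem cen_inv : ∀ a : D, Cen a → Cen a⁻¹ := by decide
theorem cen_comm : ∀ a b : D, Cen a → a * b = b * a := by decide
theorem cen_sq : ∀ a : D, Cen a → a * a = 1 := by decide
theorem cen_iff : ∀ a : D, Cen a ↔ a * sr 0 = sr 0 * a ∧ a * sr 1 = sr 1 * a := by decide
theorem sq_cen : ∀ a : D, Cen (a * a) := by decide
theorem comm_cen : ∀ a b : D, Cen (a * b * a⁻¹ * b⁻¹) := by decide
theorem not_cen_comm : ∀ a : D, ¬ Cen a → ∃ c : D, a * c * a⁻¹ * c⁻¹ = r 2 := by decide
theorem comm_ne_two : ∀ a c : D, a * c ≠ c * a → a * c * a⁻¹ * c⁻¹ = r 2 := by decide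
theorem four_sq : ∀ (i : ZMod 4) (a : D), a ∈ four i → a * a = 1 := by decide
theorem four_comm : ∀ (i : ZMod 4) (a b : D), a ∈ four i → b ∈ four i → a * b = b * a := by decide
theorem four_conj : ∀ (i : ZMod 4) (a b : D), a ∈ four i → b * a * b⁻¹ ∈ four i := by decide
theorem four_prod : ∀ a : D, ∃ u v : D, u ∈ four 0 ∧ v ∈ four 1 ∧ a = u * v := by decide
theorem invol_dich : ∀ a b : D, a * a = 1 → b * b = 1 → a * b = b * a → a ∉ four 0 → b ∈ four 1 := by
  decide

theorem invol_mem : ∀ a : D, a * a = 1 → a ∈ four 0 ∨ a ∈ four 1 := by decide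

theorem card_four (i : ZMod 4) : Nat.card (four i) = 4 := by
  rw [Nat.card_eq_fintype_card]; revert i; decide

theorem four_ne : four 0 ≠ four 1 := fun h => by
  have h1 : sr 0 ∈ four 1 := h ▸ (by decide : sr (0 : ZMod 4) ∈ four 0)
  exact absurd h1 (by decide)

/-- Pairing between the two four subgroups, modulo the centre. -/
theorem pair_one : ∀ a b : D, a ∈ four 0 → b ∈ four 1 → a * b = b * a → Cen a ∨ Cen b := by decide

theorem four_not_cen : ∀ (i : ZMod 4) (a : D), a ∈ four i → ¬ Cen a → Cen (a * sr i) := by decide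

/-- One conjugation of a factor to equalise the central parts. -/
theorem adjust : ∀ p q : D, Cen p → Cen q → ∀ p' q' : D, Cen p' → Cen q' →
    ∃ a : D, a * (sr 1 * p) * a⁻¹ = sr 1 * p' ∧ a * (sr 0 * q) * a⁻¹ = sr 0 * q' := by decide

/-! ### The model inside `S₈` -/

/-- The natural action of `D₈` on four points. -/
def dPerm : D →* Perm (ZMod 4) where
  toFun
    | r i => ⟨fun x => x + i, fun x => x - i, fun x => by ring, fun x => by ring⟩
    | sr i => ⟨fun x => -x - i, fun x => -x - i, fun x => by ring, fun x => by ring⟩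
  map_one' := Equiv.ext fun x => by revert x; decide
  map_mul' := by
    intro a b
    refine Equiv.ext fun x => ?_
    revert a b x
    decide

theorem dPerm_injective : Function.Injective dPerm := by
  intro a b h
  have h0 := congrArg (fun f : Perm (ZMod 4) => f 0) h
  have h1 := congrArg (fun f : Perm (ZMod 4) => f 1) h
  revert h0 h1 a b
  decide

/-- Renumbering of two copies of four points. -/
noncomputable def eight : ZMod 4 ⊕ ZMod 4 ≃ Fin 8 :=
  Fintype.equivFinOfCardEq (by simp [ZMod.card])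

/-- `D₈ × D₈` inside `S₈`. -/
noncomputable def pairHom : D × D →* Perm (Fin 8) :=
  (eight.permCongrHom.toMonoidHom).comp
    ((Perm.sumCongrHom (ZMod 4) (ZMod 4)).comp (dPerm.prodMap dPerm))

/-- The involution exchanging the two copies. -/
noncomputable def swapPerm : Perm (Fin 8) := eight.permCongrHom (Equiv.sumComm _ _)

theorem pairHom_apply (x : D × D) :
    pairHom x = eight.permCongrHom (Equiv.sumCongr (dPerm x.1) (dPerm x.2)) := rfl

theorem pairHom_injective : Function.Injective pairHom := fun x y h => by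
  have h1 := Perm.sumCongrHom_injective (eight.permCongrHom.injective h)
  exact Prod.ext (dPerm_injective (congrArg Prod.fst h1)) (dPerm_injective (congrArg Prod.snd h1))

theorem swapPerm_sq : swapPerm * swapPerm = 1 := by
  rw [swapPerm, ← map_mul, show (Equiv.sumComm (ZMod 4) (ZMod 4) : Perm _) * Equiv.sumComm _ _ = 1
    from Equiv.ext fun x => by cases x <;> rfl, map_one]

theorem swapPerm_conj (x : D × D) : swapPerm * pairHom x * swapPerm = pairHom x.swap := by
  rw [swapPerm, pairHom_apply, pairHom_apply, ← map_mul, ← map_mul]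
  exact congrArg _ (Equiv.ext fun t => by cases t <;> rfl)

theorem swapPerm_not_mem (x : D × D) : pairHom x ≠ swapPerm := fun h => by
  rw [swapPerm, pairHom_apply] at h
  have h1 := congrArg (fun f : Perm (ZMod 4 ⊕ ZMod 4) => f (Sum.inl 0))
    (eight.permCongrHom.injective h)
  simp at h1

theorem card_sylow_perm_eight (T : Sylow 2 (Perm (Fin 8))) : Nat.card T = 128 := by
  rw [T.card_eq_multiplicity, Nat.card_eq_fintype_card, Fintype.card_perm, Fintype.card_fin,
    show Nat.factorial 8 = 2 ^ 7 * 315 by decide,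
    Nat.factorization_mul (pow_ne_zero _ two_ne_zero) (Nat.succ_ne_zero _), Finsupp.add_apply,
    Nat.Prime.factorization_pow Nat.prime_two, Finsupp.single_eq_same,
    Nat.factorization_eq_zero_of_not_dvd (by norm_num : ¬ 2 ∣ 315)]
  norm_num

theorem eq_sylow_of_card (R : Subgroup (Perm (Fin 8))) (hR : Nat.card R = 128) :
    ∃ T : Sylow 2 (Perm (Fin 8)), (T : Subgroup (Perm (Fin 8))) = R := by
  have hp : IsPGroup 2 R := IsPGroup.of_card (n := 7) (by rw [hR]; norm_num)
  obtain ⟨T, hT⟩ := hp.exists_le_sylow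
  exact ⟨T, (Subgroup.eq_of_le_of_card_ge hT (by rw [card_sylow_perm_eight, hR])).symm⟩

/-- A set `K` together with an involution normalising it. -/
theorem exists_sup_invol {G : Type*} [Group G] (ι : D × D →* G) (w : G) (hw : w * w = 1)
    (hs : ∀ x, w * ι x * w = ι x.swap) :
    ∃ P : Subgroup G, ∀ g, g ∈ P ↔ ∃ x, g = ι x ∨ g = ι x * w := by
  have hs' : ∀ x, w * ι x = ι x.swap * w := fun x => by
    rw [← hs x, mul_assoc _ w w, hw, mul_one]
  refine ⟨{ carrier := {g | ∃ x, g = ι x ∨ g = ι x * w}, mul_mem' := ?_, one_mem' := ⟨1, Or.inl (map_one ι).symm⟩, inv_mem' := ?_ }, fun g => Iff.rfl⟩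
  · rintro a b ⟨x, rfl | rfl⟩ ⟨y, rfl | rfl⟩
    · exact ⟨x * y, Or.inl (map_mul ι x y).symm⟩
    · exact ⟨x * y, Or.inr (by rw [map_mul, mul_assoc])⟩
    · exact ⟨x * y.swap, Or.inr (by rw [map_mul, mul_assoc, hs', ← mul_assoc])⟩
    · refine ⟨x * y.swap, Or.inl ?_⟩
      rw [map_mul, mul_assoc, ← mul_assoc w, hs', mul_assoc _ w w, hw, mul_one]
  · rintro a ⟨x, rfl | rfl⟩
    · exact ⟨x⁻¹, Or.inl (map_inv ι x).symm⟩
    · exact ⟨x⁻¹.swap, Or.inr (by rw [mul_inv_rev, ← map_inv, inv_eq_of_mul_eq_one_left hw, hs'])⟩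

/-- Every Sylow 2-subgroup of `S₈` is `D₈ ≀ 2`. -/
theorem exists_wreath {G : Type*} [Group G] (P : Subgroup G) (T : Sylow 2 (Perm (Fin 8)))
    (e : P ≃* (T : Subgroup (Perm (Fin 8)))) :
    ∃ (ι : D × D →* G) (w : G), Function.Injective ι ∧ w * w = 1 ∧
      (∀ x, w * ι x * w = ι x.swap) ∧ (∀ x, ι x ≠ w) ∧
      (∀ g, g ∈ P ↔ ∃ x, g = ι x ∨ g = ι x * w) := by
  obtain ⟨R, hR⟩ := exists_sup_invol pairHom swapPerm swapPerm_sq swapPerm_conj
  have hcard : Nat.card R = 128 := by
    let f : (D × D) × Bool → R := fun q =>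
      ⟨pairHom q.1 * (if q.2 then swapPerm else 1), (hR _).mpr ⟨q.1, by cases q.2 <;> simp⟩⟩
    have hf : Function.Bijective f := by
      refine ⟨?_, ?_⟩
      · rintro ⟨x, b⟩ ⟨y, c⟩ h
        have h1 : pairHom x * (if b then swapPerm else 1) = pairHom y * (if c then swapPerm else 1) :=
          congrArg Subtype.val h
        cases b <;> cases c <;> simp at h1
        · exact Prod.ext (pairHom_injective h1) rfl
        · exact absurd (by rw [map_mul, map_inv, h1, inv_mul_cancel_left])
            (swapPerm_not_mem (y⁻¹ * x))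
        · exact absurd (by rw [map_mul, map_inv, ← h1, inv_mul_cancel_left])
            (swapPerm_not_mem (x⁻¹ * y))
        · exact Prod.ext (pairHom_injective h1) rfl
      · rintro ⟨g, hg⟩
        obtain ⟨x, rfl | rfl⟩ := (hR g).mp hg
        · exact ⟨(x, false), Subtype.ext (by simp [f])⟩
        · exact ⟨(x, true), Subtype.ext (by simp [f])⟩
    rw [← Nat.card_congr (Equiv.ofBijective f hf), Nat.card_prod, Nat.card_prod, DihedralGroup.nat_card]
    simp
  obtain ⟨T', hT'⟩ := eq_sylow_of_card R hcard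
  let e' : P ≃* R := (e.trans (T.equiv T')).trans (MulEquiv.subgroupCongr hT')
  let j : R →* G := P.subtype.comp e'.symm.toMonoidHom
  have hj : Function.Injective j := P.subtype_injective.comp e'.symm.injective
  let ι0 : D × D →* R := pairHom.codRestrict R fun x => (hR _).mpr ⟨x, Or.inl rfl⟩
  let w0 : R := ⟨swapPerm, (hR _).mpr ⟨1, Or.inr (by simp)⟩⟩
  refine ⟨j.comp ι0, j w0, hj.comp fun x y h => pairHom_injective (congrArg Subtype.val h), ?_, ?_, ?_, ?_⟩
  · exact (map_mul j w0 w0).symm.trans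
      ((congrArg j (Subtype.ext swapPerm_sq : w0 * w0 = 1)).trans (map_one j))
  · intro x
    have h1 : j (w0 * ι0 x * w0) = j (ι0 x.swap) := congrArg j (Subtype.ext (swapPerm_conj x))
    rw [map_mul j, map_mul j] at h1
    exact h1
  · exact fun x h => swapPerm_not_mem x (congrArg Subtype.val (hj h))
  · intro g
    refine ⟨fun hg => ?_, ?_⟩
    · obtain ⟨x, hx⟩ := (hR _).mp (e' ⟨g, hg⟩).2
      have hg' : j (e' ⟨g, hg⟩) = g := by simp [j]
      refine ⟨x, hx.imp (fun h => ?_) fun h => ?_⟩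
      · conv_lhs => rw [← hg']
        exact congrArg j (Subtype.ext h)
      · conv_lhs => rw [← hg']
        have h1 : j (e' ⟨g, hg⟩) = j (ι0 x * w0) := congrArg j (Subtype.ext h)
        rw [map_mul j] at h1
        exact h1
    · rintro ⟨x, rfl | rfl⟩
      · exact (e'.symm (ι0 x)).2
      · exact mul_mem (e'.symm (ι0 x)).2 (e'.symm w0).2

end Cfsg.Agent.H42.DWr
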