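import Cfsg.Agent.H42.DWr.Stab

/-!
The normaliser of `P = D₈ ≀ 2` in a 2-group of sectional rank at most 4 and its action on the two
normal elementary abelian subgroups of order 16.
-/

set_option autoImplicit false

namespace Cfsg.Agent.H42.DWr

open DihedralGroup

theorem four_words : ∀ d : D, ∃ a b c e : D, (a = 1 ∨ a = sr 0 ∨ a = sr 1) ∧
    (b = 1 ∨ b = sr 0 ∨ b = sr 1) ∧ (c = 1 ∨ c = sr 0 ∨ c = sr 1) ∧ (e = 1 ∨ e = sr 0 ∨ e = sr 1) ∧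
    d = a * b * c * e := by decide

theorem sr_not_cen : ∀ i : ZMod 4, ¬ Cen (sr i) := by decide

/-- A subgroup of `D × D` containing the four standard generators is everything. -/
theorem gen_top (K : Subgroup (D × D)) (h1 : (sr 0, 1) ∈ K) (h2 : (sr 1, 1) ∈ K)
    (h3 : (1, sr 0) ∈ K) (h4 : (1, sr 1) ∈ K) (x : D × D) : x ∈ K := by
  have hl : ∀ d : D, (d, (1 : D)) ∈ K := by
    intro d
    obtain ⟨a, b, c, e, ha, hb, hc, he, rfl⟩ := four_words d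
    have : ∀ a : D, (a = 1 ∨ a = sr 0 ∨ a = sr 1) → (a, (1 : D)) ∈ K := by
      rintro a (rfl | rfl | rfl)
      exacts [K.one_mem, h1, h2]
    simpa using K.mul_mem (K.mul_mem (K.mul_mem (this a ha) (this b hb)) (this c hc)) (this e he)
  have hr : ∀ d : D, ((1 : D), d) ∈ K := by
    intro d
    obtain ⟨a, b, c, e, ha, hb, hc, he, rfl⟩ := four_words d
    have : ∀ a : D, (a = 1 ∨ a = sr 0 ∨ a = sr 1) → ((1 : D), a) ∈ K := by
      rintro a (rfl | rfl | rfl)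
      exacts [K.one_mem, h3, h4]
    simpa using K.mul_mem (K.mul_mem (K.mul_mem (this a ha) (this b hb)) (this c hc)) (this e he)
  simpa using K.mul_mem (hl x.1) (hr x.2)

variable {S : Type*} [Group S] (C : Ctx S)

namespace Ctx

theorem ι_mem (x : D × D) : C.ι x ∈ C.P := (C.memP _).mpr ⟨x, Or.inl rfl⟩

theorem w_mem : C.w ∈ C.P := (C.memP _).mpr ⟨1, Or.inr (by simp)⟩

theorem w_inv : C.w⁻¹ = C.w := inv_eq_of_mul_eq_one_left C.sq

theorem w_ι (x : D × D) : C.w * C.ι x = C.ι x.swap * C.w := by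
  rw [← C.swap x, mul_assoc _ C.w C.w, C.sq, mul_one]

theorem ι_mul_w_not (x y : D × D) : C.ι x * C.w ≠ C.ι y := fun h =>
  C.notMem (x⁻¹ * y) (by rw [map_mul, map_inv, ← h, inv_mul_cancel_left])

/-- The two normal elementary abelian subgroups of order 16. -/
def V (i : ZMod 4) : Subgroup S := ((four i).prod (four i)).map C.ι

theorem mem_V {i : ZMod 4} {g : S} : g ∈ C.V i ↔ ∃ x : D × D, x.1 ∈ four i ∧ x.2 ∈ four i ∧ C.ι x = g := by
  simp only [V, Subgroup.mem_map, Subgroup.mem_prod, and_assoc]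

theorem ι_mem_V {i : ZMod 4} {x : D × D} : C.ι x ∈ C.V i ↔ x.1 ∈ four i ∧ x.2 ∈ four i := by
  rw [C.mem_V]
  exact ⟨fun ⟨y, h1, h2, h⟩ => C.inj h ▸ ⟨h1, h2⟩, fun ⟨h1, h2⟩ => ⟨x, h1, h2, rfl⟩⟩

theorem V_le (i : ZMod 4) : C.V i ≤ C.P := by
  rintro g hg
  obtain ⟨x, -, -, rfl⟩ := C.mem_V.mp hg
  exact C.ι_mem x

theorem V_normal (i : ZMod 4) : ∀ g ∈ C.P, ∀ v ∈ C.V i, g * v * g⁻¹ ∈ C.V i := by
  intro g hg v hv
  obtain ⟨x, hx1, hx2, rfl⟩ := C.mem_V.mp hv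
  have hι : ∀ y z : D × D, z.1 ∈ four i → z.2 ∈ four i → C.ι y * C.ι z * (C.ι y)⁻¹ ∈ C.V i :=
    fun y z h1 h2 => by
      rw [← map_inv, ← map_mul, ← map_mul, C.ι_mem_V]
      exact ⟨four_conj i _ _ h1, four_conj i _ _ h2⟩
  obtain ⟨y, rfl | rfl⟩ := (C.memP g).mp hg
  · exact hι y x hx1 hx2
  · rw [show C.ι y * C.w * C.ι x * (C.ι y * C.w)⁻¹ = C.ι y * (C.w * C.ι x * C.w⁻¹) * (C.ι y)⁻¹ by
      group, C.w_inv, C.swap]
    exact hι y x.swap hx2 hx1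

theorem card_V (i : ZMod 4) : Nat.card (C.V i) = 16 := by
  rw [V, ← Nat.card_congr ((four i).prod (four i) |>.equivMapOfInjective C.ι C.inj).toEquiv,
    Nat.card_congr ((four i).prodEquiv (four i)).toEquiv, Nat.card_prod, card_four]

theorem V_sq {i : ZMod 4} {g : S} (hg : g ∈ C.V i) : g * g = 1 := by
  obtain ⟨x, h1, h2, rfl⟩ := C.mem_V.mp hg
  rw [← map_mul]
  exact (congrArg C.ι (Prod.ext (four_sq i _ h1) (four_sq i _ h2))).trans (map_one C.ι)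

theorem V_comm {i : ZMod 4} {g h : S} (hg : g ∈ C.V i) (hh : h ∈ C.V i) : g * h = h * g := by
  obtain ⟨x, h1, h2, rfl⟩ := C.mem_V.mp hg
  obtain ⟨y, k1, k2, rfl⟩ := C.mem_V.mp hh
  rw [← map_mul, ← map_mul]
  exact congrArg C.ι (Prod.ext (four_comm i _ _ h1 k1) (four_comm i _ _ h2 k2))

theorem V_ne : C.V 0 ≠ C.V 1 := fun h => by
  have h1 : C.ι (sr 0, 1) ∈ C.V 1 := h ▸ C.ι_mem_V.mpr ⟨(by decide), Subgroup.one_mem _⟩
  exact absurd (C.ι_mem_V.mp h1).1 (by decide)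

/-- The normal elementary abelian subgroups of order 16 of `P`. -/
theorem V_classify [Finite S] (W : Subgroup S) (hle : W ≤ C.P)
    (hn : ∀ g ∈ C.P, ∀ v ∈ W, g * v * g⁻¹ ∈ W) (hsq : ∀ v ∈ W, v * v = 1)
    (hc : ∀ u ∈ W, ∀ v ∈ W, u * v = v * u) (hcard : Nat.card W = 16) : W = C.V 0 ∨ W = C.V 1 := by
  have hB : ∀ v ∈ W, ∃ x, v = C.ι x := by
    intro v hv
    obtain ⟨⟨a, b⟩, h | h⟩ := (C.memP v).mp (hle hv)
    · exact ⟨_, h⟩
    exfalso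
    subst h
    have h1 := W.mul_mem (hn _ (C.ι_mem (r 1, 1)) _ hv) (W.inv_mem hv)
    have e : C.ι (r 1, 1) * (C.ι (a, b) * C.w) * (C.ι (r 1, 1))⁻¹ * (C.ι (a, b) * C.w)⁻¹
        = C.ι (r 1, b * (r 1)⁻¹ * b⁻¹) := by
      rw [show C.ι (r 1, 1) * (C.ι (a, b) * C.w) * (C.ι (r 1, 1))⁻¹ * (C.ι (a, b) * C.w)⁻¹ =
        C.ι (r 1, 1) * C.ι (a, b) * (C.w * (C.ι (r 1, 1))⁻¹ * C.w⁻¹) * (C.ι (a, b))⁻¹ by group,
        C.w_inv, ← map_inv, C.swap, ← map_inv, ← map_mul, ← map_mul, ← map_mul]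
      exact congrArg C.ι (Prod.ext (by simp) (by simp))
    have h2 := hsq _ h1
    rw [e, ← map_mul] at h2
    have h3 := congrArg Prod.fst (C.inj (h2.trans (map_one C.ι).symm))
    exact absurd (show (r 1 : D) * r 1 = 1 from h3) (by decide)
  have hswap : ∀ x, C.ι x ∈ W → C.ι x.swap ∈ W := fun x hx => by
    have := hn _ C.w_mem _ hx
    rwa [C.w_inv, C.swap] at this
  have hpt : ∀ x y, C.ι x ∈ W → C.ι y ∈ W →
      x.1 * x.1 = 1 ∧ x.1 * y.1 = y.1 * x.1 ∧ x.1 * y.2 = y.2 * x.1 := by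
    intro x y hx hy
    have h1 := hsq _ hx
    rw [← map_mul] at h1
    have h2 := hc _ hx _ hy
    rw [← map_mul, ← map_mul] at h2
    have h3 := hc _ hx _ (hswap y hy)
    rw [← map_mul, ← map_mul] at h3
    exact ⟨congrArg Prod.fst (C.inj (h1.trans (map_one C.ι).symm)),
      congrArg Prod.fst (C.inj h2), congrArg Prod.fst (C.inj h3)⟩
  have hin : ∀ i, (∀ x, C.ι x ∈ W → x.1 ∈ four i) → W = C.V i := fun i hi => by
    refine Subgroup.eq_of_le_of_card_ge (fun v hv => ?_) (by rw [C.card_V, hcard])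
    obtain ⟨x, rfl⟩ := hB v hv
    exact C.ι_mem_V.mpr ⟨hi x hv, hi x.swap (hswap x hv)⟩
  by_cases h0 : ∀ x, C.ι x ∈ W → x.1 ∈ four 0
  · exact Or.inl (hin 0 h0)
  push Not at h0
  obtain ⟨y, hy, hy0⟩ := h0
  exact Or.inr (hin 1 fun x hx =>
    invol_dich y.1 x.1 (hpt y y hy hy).1 (hpt x x hx hx).1 (hpt y x hy hx).2.1 hy0)

/-- Conjugation by an element of the normaliser of `P` permutes the two subgroups. -/
theorem conj_V [Finite S] {g : S} (hg : g ∈ Subgroup.normalizer (C.P : Set S)) (i : ZMod 4) :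
    (C.V i).map (MulAut.conj g).toMonoidHom = C.V 0 ∨ (C.V i).map (MulAut.conj g).toMonoidHom = C.V 1 := by
  refine C.V_classify _ ?_ ?_ ?_ ?_ ?_
  · rintro _ ⟨v, hv, rfl⟩
    exact (Subgroup.mem_normalizer_iff.mp hg v).mp (C.V_le i hv)
  · rintro p hp _ ⟨v, hv, rfl⟩
    have h1 : g⁻¹ * p * g ∈ C.P := (Subgroup.mem_normalizer_iff''.mp hg p).mp hp
    refine ⟨(g⁻¹ * p * g) * v * (g⁻¹ * p * g)⁻¹, C.V_normal i _ h1 v hv, ?_⟩
    show g * _ * g⁻¹ = p * (g * v * g⁻¹) * p⁻¹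
    group
  · rintro _ ⟨v, hv, rfl⟩
    rw [← map_mul, C.V_sq hv, map_one]
  · rintro _ ⟨u, hu, rfl⟩ _ ⟨v, hv, rfl⟩
    rw [← map_mul, ← map_mul, C.V_comm hu hv]
  · rw [← Nat.card_congr ((C.V i).equivMapOfInjective _ (MulAut.conj g).injective).toEquiv, C.card_V]

theorem conj_injV {g : S} {i j k : ZMod 4} (hij : C.V i ≠ C.V j)
    (h1 : (C.V i).map (MulAut.conj g).toMonoidHom = C.V k)
    (h2 : (C.V j).map (MulAut.conj g).toMonoidHom = C.V k) : False :=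
  hij (Subgroup.map_injective (MulAut.conj g).injective (h1.trans h2.symm))

theorem mem_range_split (y : D × D) : ∃ u v, C.ι u ∈ C.V 0 ∧ C.ι v ∈ C.V 1 ∧ y = u * v := by
  obtain ⟨u1, v1, h1, k1, e1⟩ := four_prod y.1
  obtain ⟨u2, v2, h2, k2, e2⟩ := four_prod y.2
  exact ⟨(u1, u2), (v1, v2), C.ι_mem_V.mpr ⟨h1, h2⟩, C.ι_mem_V.mpr ⟨k1, k2⟩, Prod.ext e1 e2⟩

/-- The normaliser of `P` normalises `B`. -/
theorem conj_range [Finite S] {g : S} (hg : g ∈ Subgroup.normalizer (C.P : Set S)) (x : D × D) :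
    ∃ y, g * C.ι x * g⁻¹ = C.ι y := by
  have hV : ∀ i v, C.ι v ∈ C.V i → ∃ y, g * C.ι v * g⁻¹ = C.ι y := fun i v hv => by
    have h1 : g * C.ι v * g⁻¹ ∈ (C.V i).map (MulAut.conj g).toMonoidHom := ⟨_, hv, rfl⟩
    rcases C.conj_V hg i with h | h <;> rw [h] at h1 <;>
      exact (C.mem_V.mp h1).elim fun y hy => ⟨y, hy.2.2.symm⟩
  obtain ⟨u, v, hu, hv, rfl⟩ := C.mem_range_split x
  obtain ⟨a, ha⟩ := hV 0 u hu
  obtain ⟨b, hb⟩ := hV 1 v hv
  refine ⟨a * b, ?_⟩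
  rw [map_mul, map_mul, ← ha, ← hb]
  group

/-- `g` maps the standard generators of the two factors onto `sr i`, `sr j` modulo the centre. -/
def Moves (g : S) (i j : ZMod 4) : Prop :=
  ∃ p p' q q' c c' d d' : D, Cen p ∧ Cen p' ∧ Cen q ∧ Cen q' ∧ Cen c ∧ Cen c' ∧ Cen d ∧ Cen d' ∧
    g * C.ι (sr 0, 1) * g⁻¹ = C.ι (sr i * p, c) ∧ g * C.ι (sr 1, 1) * g⁻¹ = C.ι (sr j * q, d) ∧
    g * C.ι (1, sr 0) * g⁻¹ = C.ι (c', sr i * p') ∧ g * C.ι (1, sr 1) * g⁻¹ = C.ι (d', sr j * q')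

/-- Up to the swap `w`, an element of `N(P)` respects the factors modulo `Φ(B)`. -/
theorem exists_moves [Finite S] {g : S} (hg : g ∈ Subgroup.normalizer (C.P : Set S)) (i j : ZMod 4)
    (hij : (i = 0 ∧ j = 1) ∨ (i = 1 ∧ j = 0))
    (h0 : (C.V 0).map (MulAut.conj g).toMonoidHom = C.V i)
    (h1 : (C.V 1).map (MulAut.conj g).toMonoidHom = C.V j) :
    C.Moves g i j ∨ C.Moves (C.w * g) i j := by
  choose α hα using C.conj_range hg
  have hmul : ∀ x y, α (x * y) = α x * α y := fun x y => C.inj (by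
    rw [map_mul, ← hα, ← hα, ← hα, map_mul]; group)
  have hinj : Function.Injective α := fun x y e => C.inj (by
    have := (hα x).trans ((congrArg C.ι e).trans (hα y).symm)
    simpa using this)
  have hcomm : ∀ x y, α x * α y = α y * α x ↔ x * y = y * x := fun x y => by
    rw [← hmul, ← hmul]; exact hinj.eq_iff
  have hnc : ∀ x y, x * y ≠ y * x → ¬ (Cen (α x).1 ∧ Cen (α x).2) := fun x y hxy h =>
    hxy ((hcomm x y).mp (Prod.ext (cen_comm _ _ h.1) (cen_comm _ _ h.2)))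
  have hmemV : ∀ x k, C.ι x ∈ C.V k →
      ∀ l, (C.V k).map (MulAut.conj g).toMonoidHom = C.V l → (α x).1 ∈ four l ∧ (α x).2 ∈ four l := by
    intro x k hx l hl
    have h2 : g * C.ι x * g⁻¹ ∈ (C.V k).map (MulAut.conj g).toMonoidHom := ⟨_, hx, rfl⟩
    rw [hl, hα, C.ι_mem_V] at h2
    exact h2
  have e0 : ∀ d : D, d ∈ four 0 → C.ι (d, 1) ∈ C.V 0 ∧ C.ι (1, d) ∈ C.V 0 := fun d hd =>
    ⟨C.ι_mem_V.mpr ⟨hd, Subgroup.one_mem _⟩, C.ι_mem_V.mpr ⟨Subgroup.one_mem _, hd⟩⟩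
  have e1 : ∀ d : D, d ∈ four 1 → C.ι (d, 1) ∈ C.V 1 ∧ C.ι (1, d) ∈ C.V 1 := fun d hd =>
    ⟨C.ι_mem_V.mpr ⟨hd, Subgroup.one_mem _⟩, C.ι_mem_V.mpr ⟨Subgroup.one_mem _, hd⟩⟩
  have hk : sr (0 : ZMod 4) ∈ four 0 := by decide
  have hl : sr (1 : ZMod 4) ∈ four 1 := by decide
  have mu := hmemV _ _ (e0 _ hk).1 i h0
  have mu' := hmemV _ _ (e0 _ hk).2 i h0
  have mv := hmemV _ _ (e1 _ hl).1 j h1
  have mv' := hmemV _ _ (e1 _ hl).2 j h1
  have nu := hnc (sr 0, 1) (sr 1, 1) (by decide)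
  have nv := hnc (sr 1, 1) (sr 0, 1) (by decide)
  have nu' := hnc (1, sr 0) (1, sr 1) (by decide)
  have nv' := hnc (1, sr 1) (1, sr 0) (by decide)
  have nuu : ¬ (Cen ((α (sr 0, 1)).1 * (α (1, sr 0)).1) ∧ Cen ((α (sr 0, 1)).2 * (α (1, sr 0)).2)) := by
    have := hnc ((sr 0, 1) * (1, sr 0)) (sr 1, 1) (by decide)
    rwa [hmul] at this
  have c1 := (hcomm (sr 0, 1) (1, sr 1)).mpr (by decide)
  have c2 := (hcomm (1, sr 0) (sr 1, 1)).mpr (by decide)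
  have pair : ∀ a b : D, a ∈ four i → b ∈ four j → a * b = b * a → Cen a ∨ Cen b := by
    rcases hij with ⟨rfl, rfl⟩ | ⟨rfl, rfl⟩
    · exact pair_one
    · exact fun a b ha hb e => (pair_one b a hb ha e.symm).symm
  have a1 := pair _ _ mu.1 mv'.1 (congrArg Prod.fst c1)
  have a2 := pair _ _ mu.2 mv'.2 (congrArg Prod.snd c1)
  have b1 := pair _ _ mu'.1 mv.1 (congrArg Prod.fst c2)
  have b2 := pair _ _ mu'.2 mv.2 (congrArg Prod.snd c2)
  have dec : ∀ (k : ZMod 4) (a : D), a ∈ four k → ¬ Cen a → ∃ c, Cen c ∧ a = sr k * c :=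
    fun k a ha hn => ⟨sr k * a, by
      have h := four_not_cen k a ha hn
      rwa [four_comm k (sr k) a (mem_four.mpr (Or.inr (Or.inr (Or.inl rfl)))) ha],
      by rw [← mul_assoc, sr_mul_self, one_mul]⟩
  by_cases hu : Cen (α (sr 0, 1)).2
  · have hu1 : ¬ Cen (α (sr 0, 1)).1 := fun h => nu ⟨h, hu⟩
    have hv'1 : Cen (α (1, sr 1)).1 := a1.resolve_left hu1
    have hv'2 : ¬ Cen (α (1, sr 1)).2 := fun h => nv' ⟨hv'1, h⟩
    have hu'2 : ¬ Cen (α (1, sr 0)).2 := fun h => by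
      have hu'1 : ¬ Cen (α (1, sr 0)).1 := fun h' => nu' ⟨h', h⟩
      refine nuu ⟨?_, cen_mul _ _ hu h⟩
      obtain ⟨c, hc, e⟩ := dec i _ mu.1 hu1
      obtain ⟨c', hc', e'⟩ := dec i _ mu'.1 hu'1
      rw [e, e', show sr i * c * (sr i * c') = c * c' by
        rw [← cen_comm c (sr i) hc, mul_assoc, ← mul_assoc (sr i), sr_mul_self, one_mul]]
      exact cen_mul _ _ hc hc'
    have hv2 : Cen (α (sr 1, 1)).2 := b2.resolve_left hu'2
    have hv1 : ¬ Cen (α (sr 1, 1)).1 := fun h => nv ⟨h, hv2⟩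
    have hu'1 : Cen (α (1, sr 0)).1 := b1.resolve_right hv1
    obtain ⟨p, hp, ep⟩ := dec i _ mu.1 hu1
    obtain ⟨q, hq, eq⟩ := dec j _ mv.1 hv1
    obtain ⟨p', hp', ep'⟩ := dec i _ mu'.2 hu'2
    obtain ⟨q', hq', eq'⟩ := dec j _ mv'.2 hv'2
    refine Or.inl ⟨p, p', q, q', _, _, _, _, hp, hp', hq, hq', hu, hu'1, hv2, hv'1,
      ?_, ?_, ?_, ?_⟩ <;> rw [hα] <;> congr 1
    exacts [Prod.ext ep rfl, Prod.ext eq rfl, Prod.ext rfl ep', Prod.ext rfl eq']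
  · have hv'2 : Cen (α (1, sr 1)).2 := a2.resolve_left hu
    have hv'1 : ¬ Cen (α (1, sr 1)).1 := fun h => nv' ⟨h, hv'2⟩
    have hu1 : Cen (α (sr 0, 1)).1 := a1.resolve_right hv'1
    have hu'1 : ¬ Cen (α (1, sr 0)).1 := fun h => by
      have hu'2 : ¬ Cen (α (1, sr 0)).2 := fun h' => nu' ⟨h, h'⟩
      refine nuu ⟨cen_mul _ _ hu1 h, ?_⟩
      obtain ⟨c, hc, e⟩ := dec i _ mu.2 hu
      obtain ⟨c', hc', e'⟩ := dec i _ mu'.2 hu'2
      rw [e, e', show sr i * c * (sr i * c') = c * c' by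
        rw [← cen_comm c (sr i) hc, mul_assoc, ← mul_assoc (sr i), sr_mul_self, one_mul]]
      exact cen_mul _ _ hc hc'
    have hv1 : Cen (α (sr 1, 1)).1 := b1.resolve_left hu'1
    have hv2 : ¬ Cen (α (sr 1, 1)).2 := fun h => nv ⟨hv1, h⟩
    have hu'2 : Cen (α (1, sr 0)).2 := b2.resolve_right hv2
    obtain ⟨p, hp, ep⟩ := dec i _ mu.2 hu
    obtain ⟨q, hq, eq⟩ := dec j _ mv.2 hv2
    obtain ⟨p', hp', ep'⟩ := dec i _ mu'.1 hu'1
    obtain ⟨q', hq', eq'⟩ := dec j _ mv'.1 hv'1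
    refine Or.inr ⟨p, p', q, q', _, _, _, _, hp, hp', hq, hq', hu1, hu'2, hv1, hv'2,
      ?_, ?_, ?_, ?_⟩ <;>
      rw [mul_inv_rev, C.w_inv, show ∀ a : S, C.w * g * a * (g⁻¹ * C.w) = C.w * (g * a * g⁻¹) * C.w
        from fun a => by simp only [mul_assoc], hα, C.swap] <;> congr 1
    exacts [Prod.ext ep rfl, Prod.ext eq rfl, Prod.ext rfl ep', Prod.ext rfl eq']

theorem mem_range_of_moves [Finite S] {g : S} (h : C.Moves g 0 1) : g ∈ C.ι.range := by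
  obtain ⟨p, p', q, q', c, c', d, d', hp, hp', hq, hq', hc, hc', hd, hd', e1, e2, e3, e4⟩ := h
  let K : Subgroup (D × D) :=
    { carrier := {x | C.InPhi (g * C.ι x * g⁻¹ * (C.ι x)⁻¹)}
      mul_mem' := fun {x y} hx hy => by
        have h3 := C.inPhi_comm hy x
        show C.InPhi _
        rw [show g * C.ι (x * y) * g⁻¹ * (C.ι (x * y))⁻¹ = g * C.ι x * g⁻¹ *
          (g * C.ι y * g⁻¹ * (C.ι y)⁻¹) * (C.ι x)⁻¹ by rw [map_mul]; group,
          show g * C.ι x * g⁻¹ * (g * C.ι y * g⁻¹ * (C.ι y)⁻¹) * (C.ι x)⁻¹ = g * C.ι x * g⁻¹ *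
            (C.ι x)⁻¹ * (C.ι x * (g * C.ι y * g⁻¹ * (C.ι y)⁻¹)) * (C.ι x)⁻¹ by group, ← h3]
        rw [← mul_assoc, mul_inv_cancel_right]
        exact C.inPhi_mul hx hy
      one_mem' := by show C.InPhi _; simpa using C.inPhi_one
      inv_mem' := fun {x} hx => by
        have h3 := C.inPhi_comm (C.inPhi_inv hx) x⁻¹
        show C.InPhi _
        rw [show g * C.ι x⁻¹ * g⁻¹ * (C.ι x⁻¹)⁻¹ =
          C.ι x⁻¹ * (g * C.ι x * g⁻¹ * (C.ι x)⁻¹)⁻¹ * (C.ι x⁻¹)⁻¹ by rw [map_inv]; group, ← h3,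
          mul_inv_cancel_right]
        exact C.inPhi_inv hx }
  have hdiv : ∀ u v a b : D, Cen a → Cen b → g * C.ι (u, v) * g⁻¹ = C.ι (u * a, v * b) →
      (u, v) ∈ K := fun u v a b ha hb e => by
    show C.InPhi _
    rw [e, ← map_inv, ← map_mul]
    refine ⟨a, b, ha, hb, congrArg C.ι (Prod.ext ?_ ?_)⟩
    · show u * a * u⁻¹ = a
      rw [← cen_comm a u ha, mul_inv_cancel_right]
    · show v * b * v⁻¹ = b
      rw [← cen_comm b v hb, mul_inv_cancel_right]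
  refine C.mem_range_of_stable fun x => gen_top K ?_ ?_ ?_ ?_ x
  · exact hdiv _ _ _ _ hp hc (by rw [one_mul]; exact e1)
  · exact hdiv _ _ _ _ hq hd (by rw [one_mul]; exact e2)
  · exact hdiv _ _ _ _ hc' hp' (by rw [one_mul]; exact e3)
  · exact hdiv _ _ _ _ hd' hq' (by rw [one_mul]; exact e4)

/-- An element of `N(P)` fixing `V 0` lies in `P`. -/
theorem mem_P_of_fix [Finite S] {g : S} (hg : g ∈ Subgroup.normalizer (C.P : Set S))
    (h0 : (C.V 0).map (MulAut.conj g).toMonoidHom = C.V 0) : g ∈ C.P := by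
  have h1 := (C.conj_V hg 1).resolve_left fun h => C.conj_injV C.V_ne h0 h
  rcases C.exists_moves hg 0 1 (Or.inl ⟨rfl, rfl⟩) h0 h1 with h | h
  · obtain ⟨x, rfl⟩ := C.mem_range_of_moves h
    exact C.ι_mem x
  · obtain ⟨x, hx⟩ := C.mem_range_of_moves h
    rw [show g = C.w⁻¹ * C.ι x by rw [hx, inv_mul_cancel_left]]
    exact mul_mem (inv_mem C.w_mem) (C.ι_mem x)

end Ctx

end Cfsg.Agent.H42.DWr
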