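import Cfsg.Agent.H42.DWr.Norm

/-!
An element of `N(P) \ P` that centralises `w` modulo the centre of `S`, and the resulting action of
`N(P)/Z(S)` on eight points.
-/

set_option autoImplicit false

namespace Cfsg.Agent.H42.DWr

open DihedralGroup

variable {S : Type*} [Group S] (C : Ctx S)

namespace Ctx

theorem inPhi_mem {g : S} (h : C.InPhi g) : ∃ x, g = C.ι x := by
  obtain ⟨a, b, -, -, rfl⟩ := h
  exact ⟨_, rfl⟩

theorem card_P [Finite S] : Nat.card C.P = 128 := by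
  let f : (D × D) × Bool → C.P := fun q =>
    ⟨C.ι q.1 * (if q.2 then C.w else 1), (C.memP _).mpr ⟨q.1, by cases q.2 <;> simp⟩⟩
  have hf : Function.Bijective f := by
    refine ⟨?_, ?_⟩
    · rintro ⟨x, b⟩ ⟨y, c⟩ h
      have h1 : C.ι x * (if b then C.w else 1) = C.ι y * (if c then C.w else 1) :=
        congrArg Subtype.val h
      cases b <;> cases c <;> simp at h1
      · exact Prod.ext (C.inj h1) rfl
      · exact absurd h1.symm (C.ι_mul_w_not y x)
      · exact absurd h1 (C.ι_mul_w_not x y)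
      · exact Prod.ext (C.inj h1) rfl
    · rintro ⟨g, hg⟩
      obtain ⟨x, rfl | rfl⟩ := (C.memP g).mp hg
      · exact ⟨(x, false), Subtype.ext (by simp [f])⟩
      · exact ⟨(x, true), Subtype.ext (by simp [f])⟩
  rw [← Nat.card_congr (Equiv.ofBijective f hf), Nat.card_prod, Nat.card_prod, DihedralGroup.nat_card]
  simp

theorem diag_central_P {p : D} (hp : Cen p) : ∀ y ∈ C.P, y * C.ι (p, p) = C.ι (p, p) * y := by
  intro y hy
  have h1 : ∀ x, C.ι x * C.ι (p, p) = C.ι (p, p) * C.ι x := fun x =>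
    (C.inPhi_comm ⟨p, p, hp, hp, rfl⟩ x).symm
  have h2 : C.w * C.ι (p, p) = C.ι (p, p) * C.w := C.w_ι (p, p)
  obtain ⟨x, rfl | rfl⟩ := (C.memP y).mp hy
  · exact h1 x
  · rw [mul_assoc, h2, ← mul_assoc, h1, mul_assoc]

/-- The centre of `S` is the diagonal of the centre of `B`. -/
theorem mem_center_iff' [Finite S] {g : S} :
    g ∈ Subgroup.center S ↔ ∃ p, Cen p ∧ g = C.ι (p, p) := by
  have hsub : ∀ g ∈ Subgroup.center S, ∃ p, Cen p ∧ g = C.ι (p, p) := by
    intro g hg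
    obtain ⟨a, b, ha, hb, rfl⟩ :=
      C.inPhi_of_centralizes fun x => (Subgroup.mem_center_iff.mp hg (C.ι x)).symm
    have h1 := Subgroup.mem_center_iff.mp hg C.w
    rw [C.w_ι, mul_left_inj] at h1
    exact ⟨a, ha, by rw [show b = a from congrArg Prod.fst (C.inj h1)]⟩
  refine ⟨hsub g, ?_⟩
  rintro ⟨p, hp, rfl⟩
  haveI : Nontrivial S := ⟨⟨C.w, C.ι 1, fun h => C.notMem 1 h.symm⟩⟩
  haveI : Fact (Nat.Prime 2) := ⟨Nat.prime_two⟩
  haveI := C.pgroup.center_nontrivial
  obtain ⟨⟨z, hz⟩, hz1⟩ := exists_ne (1 : Subgroup.center S)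
  obtain ⟨q, hq, rfl⟩ := hsub z hz
  rcases hp with rfl | rfl
  · rw [show C.ι (1, 1) = 1 from map_one C.ι]
    exact one_mem _
  · rcases hq with rfl | rfl
    · exact absurd (Subtype.ext (show C.ι (1, 1) = 1 from map_one C.ι)) hz1
    · exact hz

theorem center_map [Finite S] :
    Subgroup.center S = (Subgroup.center C.P).map C.P.subtype ∧ Nat.card (Subgroup.center S) = 2 := by
  refine ⟨?_, ?_⟩
  · ext g
    rw [C.mem_center_iff']
    constructor
    · rintro ⟨p, hp, rfl⟩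
      exact ⟨⟨_, C.ι_mem _⟩,
        Subgroup.mem_center_iff.mpr fun y => Subtype.ext (C.diag_central_P hp y y.2), rfl⟩
    · rintro ⟨⟨g, hg⟩, hgc, rfl⟩
      have hc : ∀ y ∈ C.P, y * g = g * y := fun y hy =>
        congrArg Subtype.val (Subgroup.mem_center_iff.mp hgc ⟨y, hy⟩)
      obtain ⟨a, b, ha, hb, e⟩ : C.InPhi g := by
        obtain ⟨x, rfl | rfl⟩ := (C.memP g).mp hg
        · exact C.inPhi_of_commute fun y => (hc _ (C.ι_mem y)).symm
        · exfalso
          have h1 := hc _ (C.ι_mem (r 2, 1))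
          rw [mul_assoc, C.w_ι, ← mul_assoc, ← mul_assoc, ← map_mul, ← map_mul] at h1
          have h2 := congrArg Prod.fst (C.inj (mul_right_cancel h1))
          change r 2 * x.1 = x.1 * 1 at h2
          rw [cen_comm _ _ cen_two] at h2
          exact absurd (mul_left_cancel h2) (by decide)
      have h1 := hc _ C.w_mem
      rw [e, C.w_ι, mul_left_inj] at h1
      exact ⟨a, ha, by show g = _; rw [e, show b = a from congrArg Prod.fst (C.inj h1)]⟩
  · let f : Bool → Subgroup.center S := fun q =>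
      ⟨C.ι (if q then r 2 else 1, if q then r 2 else 1), C.mem_center_iff'.mpr
        ⟨_, by cases q <;> first | exact cen_one | exact cen_two, rfl⟩⟩
    have hf : Function.Bijective f := by
      refine ⟨fun a b h => ?_, ?_⟩
      · have h1 := congrArg Prod.fst (C.inj (congrArg Subtype.val h))
        cases a <;> cases b <;> first | rfl | exact absurd h1 (by decide)
      · rintro ⟨g, hg⟩
        obtain ⟨p, hp | hp, rfl⟩ := C.mem_center_iff'.mp hg <;> subst hp
        · exact ⟨false, rfl⟩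
        · exact ⟨true, rfl⟩
    rw [← Nat.card_congr (Equiv.ofBijective f hf)]
    simp

theorem conj_swap [Finite S] {g : S} (hg : g ∈ Subgroup.normalizer (C.P : Set S)) (hgP : g ∉ C.P) :
    (C.V 0).map (MulAut.conj g).toMonoidHom = C.V 1 ∧ (C.V 1).map (MulAut.conj g).toMonoidHom = C.V 0 := by
  have h0 := (C.conj_V hg 0).resolve_left fun h => hgP (C.mem_P_of_fix hg h)
  exact ⟨h0, (C.conj_V hg 1).resolve_right fun h => C.conj_injV C.V_ne h0 h⟩

/-- `P` has index at most two in its normaliser. -/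
theorem mul_mem_P [Finite S] {g h : S} (hg : g ∈ Subgroup.normalizer (C.P : Set S))
    (hh : h ∈ Subgroup.normalizer (C.P : Set S)) (hgP : g ∉ C.P) (hhP : h ∉ C.P) : g * h ∈ C.P := by
  refine C.mem_P_of_fix (mul_mem hg hh) ?_
  rw [show (MulAut.conj (g * h)).toMonoidHom =
    (MulAut.conj g).toMonoidHom.comp (MulAut.conj h).toMonoidHom by ext x; simp [mul_assoc],
    ← Subgroup.map_map, (C.conj_swap hh hhP).1, (C.conj_swap hg hgP).2]

theorem exists_outer [Finite S] (hlt : C.P ≠ ⊤) :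
    ∃ g ∈ Subgroup.normalizer (C.P : Set S), g ∉ C.P := by
  haveI : Fact (Nat.Prime 2) := ⟨Nat.prime_two⟩
  haveI := C.pgroup.isNilpotent
  have h := Group.normalizerCondition_of_isNilpotent C.P hlt.lt_top
  exact Set.exists_of_ssubset (SetLike.coe_ssubset_coe.mpr h)

/-- A representative of the outer coset centralising `w` modulo the centre. -/
theorem exists_good [Finite S] (hlt : C.P ≠ ⊤) :
    ∃ g ∈ Subgroup.normalizer (C.P : Set S), g ∉ C.P ∧ ∃ p, Cen p ∧ g * C.w * g⁻¹ = C.ι (p, p) * C.w := by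
  obtain ⟨g₁, hg₁, hg₁P⟩ := C.exists_outer hlt
  obtain ⟨h0, h1⟩ := C.conj_swap hg₁ hg₁P
  obtain ⟨g, hg, hgP, hmv⟩ : ∃ g ∈ Subgroup.normalizer (C.P : Set S), g ∉ C.P ∧ C.Moves g 1 0 := by
    rcases C.exists_moves hg₁ 1 0 (Or.inr ⟨rfl, rfl⟩) h0 h1 with h | h
    · exact ⟨g₁, hg₁, hg₁P, h⟩
    · exact ⟨C.w * g₁, mul_mem (Subgroup.le_normalizer C.w_mem) hg₁,
        fun hm => hg₁P ((Subgroup.mul_mem_cancel_left _ C.w_mem).mp hm), h⟩
  obtain ⟨p, p', q, q', c, c', d, d', hp, hp', hq, hq', hc, hc', hd, hd', e1, e2, e3, e4⟩ := hmv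
  obtain ⟨a, ha1, ha2⟩ := adjust (p * c') (q * d') (cen_mul _ _ hp hc') (cen_mul _ _ hq hd')
    (c * p') (d * q') (cen_mul _ _ hc hp') (cen_mul _ _ hd hq')
  set g' := C.ι (a, 1) * g with hg'
  have hg'n : g' ∈ Subgroup.normalizer (C.P : Set S) := mul_mem (Subgroup.le_normalizer (C.ι_mem _)) hg
  have hg'P : g' ∉ C.P := fun hm => hgP ((Subgroup.mul_mem_cancel_left _ (C.ι_mem _)).mp hm)
  refine ⟨g', hg'n, hg'P, ?_⟩
  have f1 : g' * C.ι (sr 0, sr 0) * g'⁻¹ = C.ι (sr 1 * (c * p'), sr 1 * (c * p')) := by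
    rw [show ((sr 0, sr 0) : D × D) = (sr 0, 1) * (1, sr 0) by simp, map_mul,
      show g' * (C.ι (sr 0, 1) * C.ι (1, sr 0)) * g'⁻¹ = C.ι (a, 1) * (g * C.ι (sr 0, 1) * g⁻¹ *
        (g * C.ι (1, sr 0) * g⁻¹)) * (C.ι (a, 1))⁻¹ by rw [hg']; group, e1, e3, ← map_mul, ← map_inv,
      ← map_mul, ← map_mul]
    refine congrArg C.ι (Prod.ext ?_ ?_)
    · show a * (sr 1 * p * c') * a⁻¹ = _
      rw [mul_assoc (sr 1), ha1]
    · show 1 * (c * (sr 1 * p')) * 1⁻¹ = _
      rw [inv_one, one_mul, mul_one, ← mul_assoc, cen_comm c (sr 1) hc, mul_assoc]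
  have f2 : g' * C.ι (sr 1, sr 1) * g'⁻¹ = C.ι (sr 0 * (d * q'), sr 0 * (d * q')) := by
    rw [show ((sr 1, sr 1) : D × D) = (sr 1, 1) * (1, sr 1) by simp, map_mul,
      show g' * (C.ι (sr 1, 1) * C.ι (1, sr 1)) * g'⁻¹ = C.ι (a, 1) * (g * C.ι (sr 1, 1) * g⁻¹ *
        (g * C.ι (1, sr 1) * g⁻¹)) * (C.ι (a, 1))⁻¹ by rw [hg']; group, e2, e4, ← map_mul, ← map_inv,
      ← map_mul, ← map_mul]
    refine congrArg C.ι (Prod.ext ?_ ?_)
    · show a * (sr 0 * q * d') * a⁻¹ = _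
      rw [mul_assoc (sr 0), ha2]
    · show 1 * (d * (sr 0 * q')) * 1⁻¹ = _
      rw [inv_one, one_mul, mul_one, ← mul_assoc, cen_comm d (sr 0) hd, mul_assoc]
  have hWP : g' * C.w * g'⁻¹ ∈ C.P := (Subgroup.mem_normalizer_iff.mp hg'n _).mp C.w_mem
  obtain ⟨⟨u, v⟩, h | h⟩ := (C.memP _).mp hWP
  · exfalso
    obtain ⟨y, hy⟩ := C.conj_range (inv_mem hg'n) (u, v)
    refine C.notMem y ?_
    rw [← hy, ← h]
    group
  have hsq : C.ι (u, v) * C.ι (v, u) = 1 := by
    have h2 : (g' * C.w * g'⁻¹) * (g' * C.w * g'⁻¹) = 1 := by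
      rw [show (g' * C.w * g'⁻¹) * (g' * C.w * g'⁻¹) = g' * (C.w * C.w) * g'⁻¹ by group, C.sq]
      group
    rw [h, mul_assoc, ← mul_assoc C.w, C.w_ι, mul_assoc (C.ι _) C.w, C.sq, mul_one] at h2
    exact h2
  have huv : u * v = 1 := congrArg Prod.fst (C.inj (((map_mul C.ι _ _).trans hsq).trans (map_one C.ι).symm))
  have hcm : ∀ x e : D, g' * C.ι (x, x) * g'⁻¹ = C.ι (e, e) → u * e = e * u := fun x e he => by
    have h3 : (g' * C.w * g'⁻¹) * (g' * C.ι (x, x) * g'⁻¹) = (g' * C.ι (x, x) * g'⁻¹) * (g' * C.w * g'⁻¹) := by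
      rw [show (g' * C.w * g'⁻¹) * (g' * C.ι (x, x) * g'⁻¹) = g' * (C.w * C.ι (x, x)) * g'⁻¹ by group,
        C.w_ι]
      show g' * (C.ι (x, x) * C.w) * g'⁻¹ = _
      group
    rw [h, he, mul_assoc, C.w_ι, ← mul_assoc, ← mul_assoc, ← map_mul, ← map_mul] at h3
    exact congrArg Prod.fst (C.inj (mul_right_cancel h3))
  have k1 := hcm _ _ f1
  have k2 := hcm _ _ f2
  have hu : Cen u := by
    refine (cen_iff u).mpr ⟨?_, ?_⟩
    · have hd'' := cen_mul d q' hd hq'
      refine mul_right_cancel (b := d * q') ?_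
      rw [mul_assoc u, k2, mul_assoc, cen_comm _ u hd'', ← mul_assoc]
    · have hc'' := cen_mul c p' hc hp'
      refine mul_right_cancel (b := c * p') ?_
      rw [mul_assoc u, k1, mul_assoc, cen_comm _ u hc'', ← mul_assoc]
  refine ⟨u, hu, ?_⟩
  rw [h, show v = u from mul_left_cancel (huv.trans (cen_sq u hu).symm)]

/-- The normaliser of an elementary abelian normal subgroup of order 16 is `P`. -/
theorem normalizer_V [Finite S] (V : Subgroup S) (hle : V ≤ C.P)
    (hn : ∀ g ∈ C.P, ∀ v ∈ V, g * v * g⁻¹ ∈ V) (hV : Cfsg.IsElementaryAbelian 2 V)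
    (hcard : Nat.card V = 16) : Subgroup.normalizer (V : Set S) = C.P := by
  have hPV : C.P ≤ Subgroup.normalizer (V : Set S) := fun g hg => by
    refine Subgroup.mem_normalizer_iff.mpr fun v => ⟨hn g hg v, fun hv => ?_⟩
    have := hn g⁻¹ (inv_mem hg) _ hv
    simpa [mul_assoc] using this
  by_contra hne
  haveI : Fact (Nat.Prime 2) := ⟨Nat.prime_two⟩
  haveI : Group.IsNilpotent (Subgroup.normalizer (V : Set S)) := (C.pgroup.to_subgroup _).isNilpotent
  have hlt : C.P.subgroupOf (Subgroup.normalizer (V : Set S)) < ⊤ :=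
    lt_of_le_of_ne le_top fun e => hne (le_antisymm (Subgroup.subgroupOf_eq_top.mp e) hPV)
  obtain ⟨g, hg, hgP⟩ := Set.exists_of_ssubset (SetLike.coe_ssubset_coe.mpr
    (Group.normalizerCondition_of_isNilpotent _ hlt))
  have hgn : (g : S) ∈ Subgroup.normalizer (C.P : Set S) := by
    refine Subgroup.mem_normalizer_iff.mpr fun x => ⟨fun hx => ?_, fun hx => ?_⟩
    · exact (Subgroup.mem_normalizer_iff.mp hg ⟨x, hPV hx⟩).mp hx
    · have hxV : x ∈ Subgroup.normalizer (V : Set S) := by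
        have h3 := mul_mem (mul_mem (inv_mem g.2) (hPV hx)) g.2
        simpa [mul_assoc] using h3
      exact (Subgroup.mem_normalizer_iff.mp hg ⟨x, hxV⟩).mpr hx
  obtain ⟨h0, h1⟩ := C.conj_swap hgn hgP
  have hfix : V.map (MulAut.conj (g : S)).toMonoidHom = V := by
    refine Subgroup.eq_of_le_of_card_ge ?_ (by
      rw [← Nat.card_congr (V.equivMapOfInjective _ (MulAut.conj (g : S)).injective).toEquiv])
    rintro _ ⟨v, hv, rfl⟩
    exact (Subgroup.mem_normalizer_iff.mp g.2 v).mp hv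
  rcases C.V_classify V hle hn (fun v hv => by rw [← pow_two]; exact hV.2 v hv)
    (fun u hu v hv => congrArg Subtype.val (hV.1.is_comm.comm (⟨u, hu⟩ : V) ⟨v, hv⟩)) hcard with rfl | rfl
  · exact C.V_ne (hfix.symm.trans h0)
  · exact C.V_ne (h1.symm.trans hfix)

theorem relIndex_P [Finite S] (hlt : C.P ≠ ⊤) :
    C.P.relIndex (Subgroup.normalizer (C.P : Set S)) = 2 := by
  obtain ⟨g, hg, hgP⟩ := C.exists_outer hlt
  rw [Subgroup.relIndex, Subgroup.index_eq_two_iff]
  refine ⟨⟨g, hg⟩, fun b => ?_⟩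
  by_cases hb : (b : S) ∈ C.P
  · exact Or.inr ⟨hb, fun h => hgP ((Subgroup.mul_mem_cancel_left _ hb).mp h)⟩
  · exact Or.inl ⟨C.mul_mem_P b.2 hg hb hgP, hb⟩

theorem card_normalizer [Finite S] (hlt : C.P ≠ ⊤) :
    Nat.card (Subgroup.normalizer (C.P : Set S)) = 256 := by
  rw [← Subgroup.card_mul_index (C.P.subgroupOf (Subgroup.normalizer (C.P : Set S))),
    Nat.card_congr (Subgroup.subgroupOfEquivOfLe Subgroup.le_normalizer).toEquiv,
    show (C.P.subgroupOf (Subgroup.normalizer (C.P : Set S))).index = 2 from C.relIndex_P hlt, C.card_P]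

/-- An index-eight subgroup of `N(P)` with core `Z(S)`. -/
theorem exists_point [Finite S] (hlt : C.P ≠ ⊤) :
    ∃ X : Subgroup (Subgroup.normalizer (C.P : Set S)), X.index = 8 ∧
      X.normalCore = (Subgroup.center S).subgroupOf (Subgroup.normalizer (C.P : Set S)) := by
  obtain ⟨g, hg, hgP, c, hc, hgw⟩ := C.exists_good hlt
  set N := Subgroup.normalizer (C.P : Set S) with hN
  have hz : C.ι (c, c) ∈ Subgroup.center S := C.mem_center_iff'.mpr ⟨c, hc, rfl⟩
  have hzsq : C.ι (c, c) * C.ι (c, c) = 1 := C.inPhi_sq ⟨c, c, hc, hc, rfl⟩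
  have hzc : ∀ a : S, a * C.ι (c, c) = C.ι (c, c) * a := fun a => Subgroup.mem_center_iff.mp hz a
  let Y : Set S := {x | x ∈ C.P ∧ x * C.w = C.w * x}
  have hY1 : ∀ {x}, x ∈ Y → g * x * g⁻¹ ∈ Y := fun {x} hx => by
    refine ⟨(Subgroup.mem_normalizer_iff.mp hg x).mp hx.1, ?_⟩
    have h1 : (g * x * g⁻¹) * (g * C.w * g⁻¹) = (g * C.w * g⁻¹) * (g * x * g⁻¹) := by
      rw [show (g * x * g⁻¹) * (g * C.w * g⁻¹) = g * (x * C.w) * g⁻¹ by group, hx.2]; group
    rw [hgw, ← mul_assoc, hzc, mul_assoc, mul_assoc (C.ι (c, c))] at h1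
    exact mul_left_cancel h1
  have hgw' : g⁻¹ * C.w * g = C.ι (c, c) * C.w := by
    have h3 : g⁻¹ * C.ι (c, c) = C.ι (c, c) * g⁻¹ := hzc g⁻¹
    calc g⁻¹ * C.w * g = g⁻¹ * (C.ι (c, c) * C.ι (c, c)) * C.w * g := by rw [hzsq, mul_one]
      _ = C.ι (c, c) * (g⁻¹ * (C.ι (c, c) * C.w) * g) := by
          rw [← mul_assoc g⁻¹, h3]; simp only [mul_assoc]
      _ = C.ι (c, c) * C.w := by
          rw [show g⁻¹ * (C.ι (c, c) * C.w) * g = C.w by rw [← hgw]; group]
  have hY2 : ∀ {x}, x ∈ Y → g⁻¹ * x * g ∈ Y := fun {x} hx => by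
    refine ⟨(Subgroup.mem_normalizer_iff''.mp hg x).mp hx.1, ?_⟩
    have h1 : (g⁻¹ * x * g) * (g⁻¹ * C.w * g) = (g⁻¹ * C.w * g) * (g⁻¹ * x * g) := by
      rw [show (g⁻¹ * x * g) * (g⁻¹ * C.w * g) = g⁻¹ * (x * C.w) * g by group, hx.2]; group
    rw [hgw', ← mul_assoc, hzc, mul_assoc, mul_assoc (C.ι (c, c))] at h1
    exact mul_left_cancel h1
  have hg2 : g * g ∈ Y := by
    refine ⟨C.mul_mem_P hg hg hgP hgP, ?_⟩
    have h1 : g * g * C.w * (g * g)⁻¹ = C.w := by
      rw [show g * g * C.w * (g * g)⁻¹ = g * (g * C.w * g⁻¹) * g⁻¹ by group, hgw,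
        ← mul_assoc g, hzc, mul_assoc (C.ι (c, c)), mul_assoc (C.ι (c, c)), hgw, ← mul_assoc, hzsq, one_mul]
    exact mul_inv_eq_iff_eq_mul.mp h1
  have hYm : ∀ {x y}, x ∈ Y → y ∈ Y → x * y ∈ Y := fun {x y} hx hy =>
    ⟨mul_mem hx.1 hy.1, by rw [mul_assoc, hy.2, ← mul_assoc, hx.2, mul_assoc]⟩
  have hYi : ∀ {x}, x ∈ Y → x⁻¹ ∈ Y := fun {x} hx =>
    ⟨inv_mem hx.1, (show Commute x C.w from hx.2).inv_left.eq⟩
  let X₀ : Subgroup S :=
    { carrier := {x | x ∈ Y ∨ x * g⁻¹ ∈ Y}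
      one_mem' := Or.inl ⟨one_mem _, by simp⟩
      inv_mem' := by
        rintro x (hx | hx)
        · exact Or.inl (hYi hx)
        · refine Or.inr ?_
          have h4 := hYm (hY2 (hYi hx)) (hYi hg2)
          rwa [show g⁻¹ * (x * g⁻¹)⁻¹ * g * (g * g)⁻¹ = x⁻¹ * g⁻¹ by group] at h4
      mul_mem' := by
        rintro x y (hx | hx) (hy | hy)
        · exact Or.inl (hYm hx hy)
        · refine Or.inr ?_
          rw [mul_assoc]
          exact hYm hx hy
        · refine Or.inr ?_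
          have h4 := hYm hx (hY1 hy)
          rwa [show x * g⁻¹ * (g * y * g⁻¹) = x * y * g⁻¹ by group] at h4
        · refine Or.inl ?_
          have h4 := hYm (hYm hx (hY1 hy)) hg2
          rwa [show x * g⁻¹ * (g * (y * g⁻¹) * g⁻¹) * (g * g) = x * y by group] at h4 }
  have hX₀ : ∀ {x}, x ∈ X₀ → x ∈ C.P → x ∈ Y := fun {x} hx hxP => hx.resolve_right fun h =>
    hgP ((Subgroup.inv_mem_iff _).mp ((Subgroup.mul_mem_cancel_left _ hxP).mp h.1))
  have hX₀N : X₀ ≤ N := by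
    rintro x (hx | hx)
    · exact Subgroup.le_normalizer hx.1
    · rw [show x = x * g⁻¹ * g by group]
      exact mul_mem (Subgroup.le_normalizer hx.1) hg
  have hYι : ∀ {a b : D}, C.ι (a, b) ∈ Y → a = b := fun {a b} h => by
    have h1 := h.2
    rw [C.w_ι] at h1
    exact congrArg Prod.fst (C.inj (mul_right_cancel h1))
  have hcardY : Nat.card {x // x ∈ Y} = 16 := by
    let f : D × Bool → {x // x ∈ Y} := fun q =>
      ⟨C.ι (q.1, q.1) * (if q.2 then C.w else 1), (C.memP _).mpr ⟨(q.1, q.1), by cases q.2 <;> simp⟩, by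
        have hd : C.w * C.ι (q.1, q.1) = C.ι (q.1, q.1) * C.w := C.w_ι (q.1, q.1)
        cases q.2
        · simp [hd]
        · simp only [↓reduceIte]
          rw [← mul_assoc C.w, hd]⟩
    have hf : Function.Bijective f := by
      refine ⟨?_, ?_⟩
      · rintro ⟨x, b⟩ ⟨y, e⟩ h
        have h1 : C.ι (x, x) * (if b then C.w else 1) = C.ι (y, y) * (if e then C.w else 1) :=
          congrArg Subtype.val h
        cases b <;> cases e <;> simp at h1
        · obtain rfl : x = y := congrArg (fun t : D × D => t.1) (C.inj h1)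
          rfl
        · exact absurd h1.symm (C.ι_mul_w_not _ _)
        · exact absurd h1 (C.ι_mul_w_not _ _)
        · obtain rfl : x = y := congrArg (fun t : D × D => t.1) (C.inj h1)
          rfl
      · rintro ⟨x, hx⟩
        obtain ⟨⟨a, b⟩, rfl | rfl⟩ := (C.memP x).mp hx.1
        · obtain rfl := hYι hx
          exact ⟨(a, false), Subtype.ext (by simp [f])⟩
        · obtain rfl : a = b := by
            have h1 := hx.2
            rw [← mul_assoc, C.w_ι] at h1
            exact congrArg Prod.fst (C.inj (mul_right_cancel (mul_right_cancel h1)))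
          exact ⟨(a, true), Subtype.ext (by simp [f])⟩
    rw [← Nat.card_congr (Equiv.ofBijective f hf), Nat.card_prod, DihedralGroup.nat_card]
    simp
  have hcardX : Nat.card X₀ = 32 := by
    let f : {x // x ∈ Y} × Bool → X₀ := fun q =>
      ⟨q.1 * (if q.2 then g else 1), by
        cases q.2
        · exact Or.inl (by simp)
        · exact Or.inr (by simp)⟩
    have hf : Function.Bijective f := by
      refine ⟨?_, ?_⟩
      · rintro ⟨⟨x, hx⟩, b⟩ ⟨⟨y, hy⟩, e⟩ h
        have h1 : x * (if b then g else 1) = y * (if e then g else 1) := congrArg Subtype.val h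
        cases b <;> cases e <;> simp at h1
        · subst h1; rfl
        · exact absurd ((Subgroup.mul_mem_cancel_left _ hy.1).mp (h1 ▸ hx.1)) hgP
        · exact absurd ((Subgroup.mul_mem_cancel_left _ hx.1).mp (h1.symm ▸ hy.1)) hgP
        · subst h1; rfl
      · rintro ⟨x, hx | hx⟩
        · exact ⟨(⟨x, hx⟩, false), Subtype.ext (by simp [f])⟩
        · exact ⟨(⟨_, hx⟩, true), Subtype.ext (by simp [f])⟩
    rw [← Nat.card_congr (Equiv.ofBijective f hf), Nat.card_prod, hcardY]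
    simp
  refine ⟨X₀.subgroupOf N, ?_, le_antisymm ?_ ?_⟩
  · have h1 := Subgroup.card_mul_index (X₀.subgroupOf N)
    rw [Nat.card_congr (Subgroup.subgroupOfEquivOfLe hX₀N).toEquiv, hcardX, C.card_normalizer hlt] at h1
    omega
  · set K := (X₀.subgroupOf N).normalCore
    have hKX : ∀ x : N, x ∈ K → (x : S) ∈ X₀ := fun x hx => Subgroup.normalCore_le (X₀.subgroupOf N) hx
    have hdiv : ∀ (x : N) (y : N), x ∈ K → y * x * y⁻¹ * x⁻¹ ∈ K := fun x y hx =>
      mul_mem (Subgroup.Normal.conj_mem inferInstance x hx y) (inv_mem hx)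
    have hKB : ∀ (x : N) (a b : D), x ∈ K → (x : S) = C.ι (a, b) → a = b ∧ Cen a := by
      intro x a b hx e
      have hab : a = b := hYι (hX₀ (e ▸ hKX x hx) (C.ι_mem _))
      refine ⟨hab, ?_⟩
      by_contra hna
      obtain ⟨d, hd⟩ := not_cen_comm a hna
      have h1 := hKX _ (inv_mem (hdiv x ⟨_, Subgroup.le_normalizer (C.ι_mem (d, 1))⟩ hx))
      have e1 : ((((⟨C.ι (d, 1), Subgroup.le_normalizer (C.ι_mem (d, 1))⟩ : N) * x *
          (⟨C.ι (d, 1), Subgroup.le_normalizer (C.ι_mem (d, 1))⟩ : N)⁻¹ * x⁻¹)⁻¹ : N) : S)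
          = C.ι (r 2, 1) := by
        simp only [Subgroup.coe_inv, Subgroup.coe_mul]
        rw [e, ← map_inv, ← map_mul, ← map_inv, ← map_mul, ← map_mul, ← map_inv]
        exact congrArg C.ι (Prod.ext (by rw [← hd]; simp [mul_assoc]) (by simp))
      rw [e1] at h1
      exact absurd (hYι (hX₀ h1 (C.ι_mem _))) (by decide)
    have hKP : ∀ (x : N) (y : S), x ∈ K → (x : S) = y → y ∈ C.ι.range → y ∈ Subgroup.center S := by
      rintro x _ hx e ⟨⟨a, b⟩, rfl⟩
      obtain ⟨rfl, ha⟩ := hKB x a b hx e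
      exact C.mem_center_iff'.mpr ⟨a, ha, rfl⟩
    intro x hx
    refine Subgroup.mem_subgroupOf.mpr (hKP x x hx rfl (C.mem_range_of_stable fun y => ?_))
    obtain ⟨y', hy'⟩ := C.conj_range x.2 y
    have h3 := hKP _ _ (inv_mem (hdiv x ⟨_, Subgroup.le_normalizer (C.ι_mem y)⟩ hx)) rfl
      ⟨y' * y⁻¹, by
        simp only [Subgroup.coe_inv, Subgroup.coe_mul]
        rw [map_mul, map_inv, ← hy']
        group⟩
    obtain ⟨p, hp, hp'⟩ := C.mem_center_iff'.mp h3
    refine ⟨p, p, hp, hp, ?_⟩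
    simp only [Subgroup.coe_inv, Subgroup.coe_mul] at hp'
    rw [← hp']
    group
  · refine Subgroup.normal_le_normalCore.mpr fun x hx => ?_
    obtain ⟨p, hp, e⟩ := C.mem_center_iff'.mp (Subgroup.mem_subgroupOf.mp hx)
    refine Subgroup.mem_subgroupOf.mpr (Or.inl ⟨e ▸ C.ι_mem _, ?_⟩)
    exact (Subgroup.mem_center_iff.mp (Subgroup.mem_subgroupOf.mp hx) C.w).symm

theorem quotient_iso [Finite S] (hlt : C.P ≠ ⊤) :
    ∃ (_ : ((Subgroup.center S).subgroupOf (Subgroup.normalizer (C.P : Set S))).Normal)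
      (T : Sylow 2 (Equiv.Perm (Fin 8))),
      Nonempty (↥(Subgroup.normalizer (C.P : Set S)) ⧸
        (Subgroup.center S).subgroupOf (Subgroup.normalizer (C.P : Set S)) ≃*
        ↥(T : Subgroup (Equiv.Perm (Fin 8)))) := by
  obtain ⟨X, hX8, hcore⟩ := C.exists_point hlt
  let N := Subgroup.normalizer (C.P : Set S)
  let Z := (Subgroup.center S).subgroupOf N
  haveI hZn : Z.Normal := by
    rw [show Z = X.normalCore from hcore.symm]
    infer_instance
  have e : (N ⧸ X) ≃ Fin 8 := Finite.equivFinOfCardEq hX8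
  let ρ : N →* Equiv.Perm (Fin 8) := e.permCongrHom.toMonoidHom.comp (MulAction.toPermHom N (N ⧸ X))
  have hker : ρ.ker = Z := by
    ext x
    rw [MonoidHom.mem_ker, show Z = X.normalCore from hcore.symm, Subgroup.normalCore_eq_ker,
      MonoidHom.mem_ker]
    show e.permCongrHom _ = 1 ↔ _
    exact EmbeddingLike.map_eq_one_iff
  let ψ := (QuotientGroup.quotientMulEquivOfEq hker.symm).trans (QuotientGroup.quotientKerEquivRange ρ)
  have hcard : Nat.card ρ.range = 128 := by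
    rw [← Nat.card_congr ψ.toEquiv, ← Subgroup.index_eq_card]
    have h1 := Subgroup.card_mul_index Z
    rw [Nat.card_congr (Subgroup.subgroupOfEquivOfLe ?_).toEquiv, C.center_map.2,
      C.card_normalizer hlt] at h1
    · omega
    · exact fun x hx => Subgroup.mem_normalizer_iff.mpr fun y => by
        rw [← Subgroup.mem_center_iff.mp hx y, mul_inv_cancel_right]
  obtain ⟨T, hT⟩ := eq_sylow_of_card _ hcard
  exact ⟨hZn, T, ⟨ψ.trans (MulEquiv.subgroupCongr hT.symm)⟩⟩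

end Ctx

end Cfsg.Agent.H42.DWr
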