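import Cfsg.Agent.H42.DWr.Model
import Cfsg.Prelude.Def_CaseTheorems
import Cfsg.Prelude.Def_Transfer

/-!
`B = D₈ × D₈` in a 2-group of sectional rank at most 4 contains every element stabilising the series
`1 < Φ(B) < B`.
-/

set_option autoImplicit false

namespace Cfsg.Agent.H42.DWr

open DihedralGroup

/-- `D₈ ≀ 2` inside a 2-group of sectional rank at most four. -/
structure Ctx (S : Type*) [Group S] where
  ι : D × D →* S
  inj : Function.Injective ι
  w : S
  sq : w * w = 1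
  swap : ∀ x, w * ι x * w = ι x.swap
  notMem : ∀ x, ι x ≠ w
  P : Subgroup S
  memP : ∀ g, g ∈ P ↔ ∃ x, g = ι x ∨ g = ι x * w
  pgroup : IsPGroup 2 S
  rank : Cfsg.SectionalPRankLE 2 4 S

variable {S : Type*} [Group S] (C : Ctx S)

namespace Ctx

/-- The elements of `Φ(B)`. -/
def InPhi (g : S) : Prop := ∃ a b : D, Cen a ∧ Cen b ∧ g = C.ι (a, b)

theorem inPhi_one : C.InPhi 1 := ⟨1, 1, cen_one, cen_one, (map_one C.ι).symm⟩

theorem inPhi_mul {g h : S} (hg : C.InPhi g) (hh : C.InPhi h) : C.InPhi (g * h) := by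
  obtain ⟨a, b, ha, hb, rfl⟩ := hg
  obtain ⟨c, d, hc, hd, rfl⟩ := hh
  exact ⟨a * c, b * d, cen_mul a c ha hc, cen_mul b d hb hd, (map_mul C.ι _ _).symm⟩

theorem inPhi_inv {g : S} (hg : C.InPhi g) : C.InPhi g⁻¹ := by
  obtain ⟨a, b, ha, hb, rfl⟩ := hg
  exact ⟨a⁻¹, b⁻¹, cen_inv a ha, cen_inv b hb, (map_inv C.ι _).symm⟩

theorem inPhi_sq {g : S} (hg : C.InPhi g) : g * g = 1 := by
  obtain ⟨a, b, ha, hb, rfl⟩ := hg
  rw [← map_mul, Prod.mk_mul_mk, cen_sq a ha, cen_sq b hb]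
  exact map_one C.ι

theorem inPhi_comm {g : S} (hg : C.InPhi g) (x : D × D) : g * C.ι x = C.ι x * g := by
  obtain ⟨a, b, ha, hb, rfl⟩ := hg
  rw [← map_mul, ← map_mul]
  exact congrArg C.ι (Prod.ext (cen_comm a x.1 ha) (cen_comm b x.2 hb))

theorem sq_inPhi (x : D × D) : C.InPhi (C.ι x * C.ι x) :=
  ⟨_, _, sq_cen x.1, sq_cen x.2, by rw [← map_mul]; rfl⟩

theorem comm_inPhi (x y : D × D) : C.InPhi (C.ι x * C.ι y * (C.ι x)⁻¹ * (C.ι y)⁻¹) :=
  ⟨_, _, comm_cen x.1 y.1, comm_cen x.2 y.2, by rw [← map_mul, ← map_inv, ← map_mul, ← map_inv, ← map_mul]; rfl⟩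

/-- An element centralising `Φ(B)` and `B/Φ(B)` with square in `Φ(B)` lies in `B`. -/
theorem mem_range_of_section [Finite S] {g : S}
    (hfix : ∀ f, C.InPhi f → g * f = f * g) (hsq : C.InPhi (g * g))
    (hcomm : ∀ x, C.InPhi (g * C.ι x * g⁻¹ * (C.ι x)⁻¹)) : g ∈ C.ι.range := by
  by_contra hg
  let H : Subgroup S := Subgroup.closure (Set.range C.ι ∪ {g})
  have hBH : C.ι.range ≤ H := fun x hx => Subgroup.subset_closure (Or.inl (MonoidHom.mem_range.mp hx))
  have hgH : g ∈ H := Subgroup.subset_closure (Or.inr rfl)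
  have hcent : ∀ f, C.InPhi f → H ≤ Subgroup.centralizer {f} := fun f hf => by
    refine (Subgroup.closure_le _).mpr ?_
    rintro y (⟨x, rfl⟩ | h)
    · exact Subgroup.mem_centralizer_singleton_iff.mpr (C.inPhi_comm hf x).symm
    · rw [Set.mem_singleton_iff.mp h]
      exact Subgroup.mem_centralizer_singleton_iff.mpr (hfix f hf)
  let N : Subgroup H :=
    { carrier := {x | C.InPhi (x : S)}
      mul_mem' := fun hx hy => C.inPhi_mul hx hy
      one_mem' := C.inPhi_one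
      inv_mem' := fun hx => C.inPhi_inv hx }
  have hmemN : ∀ x : H, x ∈ N ↔ C.InPhi (x : S) := fun _ => Iff.rfl
  haveI hNn : N.Normal := ⟨fun n hn x => by
    have h1 := Subgroup.mem_centralizer_singleton_iff.mp (hcent _ hn x.2)
    rw [show x * n * x⁻¹ = n from Subtype.ext (by
      show (x : S) * n * (x : S)⁻¹ = n
      rw [h1, mul_inv_cancel_right])]
    exact hn⟩
  let gens : Set (H ⧸ N) := (QuotientGroup.mk' N) '' {x : H | (x : S) ∈ Set.range C.ι ∪ {g}}
  have hgens : Subgroup.closure gens = ⊤ := by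
    rw [← MonoidHom.map_closure, show {x : H | (x : S) ∈ Set.range C.ι ∪ {g}} =
        ((↑) : H → S) ⁻¹' (Set.range C.ι ∪ {g}) from rfl, Subgroup.closure_closure_coe_preimage,
      ← MonoidHom.range_eq_map, MonoidHom.range_eq_top]
    exact QuotientGroup.mk'_surjective N
  have hpair : ∀ a b : S, (ha : a ∈ H) → (hb : b ∈ H) → C.InPhi (a * b * a⁻¹ * b⁻¹) →
      (QuotientGroup.mk' N ⟨a, ha⟩) * QuotientGroup.mk' N ⟨b, hb⟩ =
        QuotientGroup.mk' N ⟨b, hb⟩ * QuotientGroup.mk' N ⟨a, ha⟩ := fun a b ha hb hab => by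
    have h1 : (((⟨a, ha⟩ : H) * ⟨b, hb⟩ * (⟨a, ha⟩ : H)⁻¹ * (⟨b, hb⟩ : H)⁻¹ : H) : H ⧸ N) = 1 :=
      (QuotientGroup.eq_one_iff _).mpr hab
    rw [QuotientGroup.mk_mul, QuotientGroup.mk_mul, QuotientGroup.mk_mul, QuotientGroup.mk_inv,
      QuotientGroup.mk_inv, mul_inv_eq_one, mul_inv_eq_iff_eq_mul] at h1
    simpa [QuotientGroup.mk'_apply] using h1
  have hgc : ∀ a ∈ gens, ∀ b ∈ gens, a * b = b * a := by
    rintro _ ⟨⟨a, haH⟩, ha, rfl⟩ _ ⟨⟨b, hbH⟩, hb, rfl⟩
    rcases ha with ⟨x, rfl⟩ | ha <;> rcases hb with ⟨y, rfl⟩ | hb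
    · exact hpair _ _ _ _ (C.comm_inPhi x y)
    · obtain rfl : g = b := (show b = g from hb).symm
      exact (hpair _ _ _ _ (hcomm x)).symm
    · obtain rfl : g = a := (show a = g from ha).symm
      exact hpair _ _ _ _ (hcomm y)
    · have h1 : (⟨a, haH⟩ : H) = ⟨b, hbH⟩ := Subtype.ext ((show a = g from ha).trans (show b = g from hb).symm)
      rw [h1]
  haveI := Subgroup.isMulCommutative_closure hgc
  have hc : ∀ a b : H ⧸ N, a * b = b * a := fun a b => congrArg Subtype.val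
    (mul_comm' (⟨a, hgens ▸ Subgroup.mem_top a⟩ : Subgroup.closure gens)
      ⟨b, hgens ▸ Subgroup.mem_top b⟩)
  have hexp : ∀ a : H ⧸ N, a ^ 2 = 1 := by
    intro a
    have ha : a ∈ Subgroup.closure gens := hgens ▸ Subgroup.mem_top a
    induction ha using Subgroup.closure_induction with
    | mem y hy =>
      obtain ⟨⟨y, hyH⟩, hy, rfl⟩ := hy
      rw [← map_pow, QuotientGroup.mk'_apply, QuotientGroup.eq_one_iff, hmemN]
      show C.InPhi (y ^ 2)
      rw [pow_two]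
      rcases hy with ⟨x, rfl⟩ | hy
      · exact C.sq_inPhi x
      · rw [show y = g from hy]
        exact hsq
    | one => exact one_pow 2
    | mul y z _ _ hy hz => rw [(show Commute y z from hc y z).mul_pow, hy, hz, one_mul]
    | inv y _ hy => rw [inv_pow, hy, inv_one]
  have hle := C.rank H N ⊤ ⟨⟨fun a b => Subtype.ext (hc a b)⟩⟩ fun a _ => hexp a
  rw [Subgroup.card_top] at hle
  have hN : Nat.card N ≤ 4 := by
    let f : Bool × Bool → N := fun q =>
      ⟨⟨C.ι (if q.1 then r 2 else 1, if q.2 then r 2 else 1), hBH (MonoidHom.mem_range.mpr ⟨_, rfl⟩)⟩,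
        ⟨_, _, by cases q.1 <;> first | exact cen_one | exact cen_two,
          by cases q.2 <;> first | exact cen_one | exact cen_two, rfl⟩⟩
    refine le_trans (Nat.card_le_card_of_surjective f ?_) (by simp)
    rintro ⟨⟨x, hxH⟩, a, b, ha, hb, he⟩
    refine ⟨(decide (a = r 2), decide (b = r 2)), Subtype.ext (Subtype.ext (Eq.trans ?_ he.symm))⟩
    rcases ha with rfl | rfl <;> rcases hb with rfl | rfl <;> rfl
  have hB : Nat.card C.ι.range = 64 := by
    rw [← Nat.card_congr (MonoidHom.ofInjective C.inj).toEquiv, Nat.card_prod, DihedralGroup.nat_card]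
  have hlt : 64 < Nat.card H := by
    rw [← hB]
    refine lt_of_le_of_ne (Subgroup.card_le_of_le hBH) fun e => hg ?_
    rw [Subgroup.eq_of_le_of_card_ge hBH e.ge]
    exact hgH
  have := Subgroup.card_eq_card_quotient_mul_card_subgroup N
  have h16 : Nat.card (H ⧸ N) * Nat.card N ≤ 16 * 4 := Nat.mul_le_mul hle hN
  omega

theorem inPhi_of_commute {x : D × D} (hx : ∀ y, C.ι x * C.ι y = C.ι y * C.ι x) :
    C.InPhi (C.ι x) := by
  have h0 : ∀ a : D, (x.1 * a = a * x.1) ∧ (x.2 * a = a * x.2) := fun a => by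
    have h1 := hx (a, a)
    rw [← map_mul, ← map_mul] at h1
    exact ⟨congrArg Prod.fst (C.inj h1), congrArg Prod.snd (C.inj h1)⟩
  exact ⟨x.1, x.2, (cen_iff _).mpr ⟨(h0 _).1, (h0 _).1⟩, (cen_iff _).mpr ⟨(h0 _).2, (h0 _).2⟩, rfl⟩

/-- The centraliser of `B` lies in `Φ(B)`. -/
theorem inPhi_of_centralizes [Finite S] {g : S} (hg : ∀ x, g * C.ι x = C.ι x * g) : C.InPhi g := by
  suffices h : g ∈ C.ι.range by
    obtain ⟨x, rfl⟩ := h
    exact C.inPhi_of_commute hg
  by_contra hgB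
  classical
  obtain ⟨k, hk⟩ := C.pgroup g
  have hex : ∃ k, g ^ 2 ^ k ∈ C.ι.range := ⟨k, hk ▸ one_mem _⟩
  have h0 : Nat.find hex ≠ 0 := fun e => hgB (by
    have h := Nat.find_spec hex
    rwa [e, pow_zero, pow_one] at h)
  obtain ⟨j, hj⟩ := Nat.exists_eq_succ_of_ne_zero h0
  have hy : ∀ x, g ^ 2 ^ j * C.ι x = C.ι x * g ^ 2 ^ j := fun x =>
    ((show Commute g (C.ι x) from hg x).pow_left _).eq
  refine Nat.find_min hex (hj ▸ Nat.lt_succ_self j) (C.mem_range_of_section ?_ ?_ ?_)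
  · rintro f ⟨a, b, -, -, rfl⟩
    exact hy _
  · have h1 := Nat.find_spec hex
    rw [hj, pow_succ, pow_mul, pow_two] at h1
    obtain ⟨x, hx⟩ := h1
    rw [← hx]
    refine C.inPhi_of_commute fun y => ?_
    rw [hx]
    exact ((show Commute (g ^ 2 ^ j) (C.ι y) from hy y).mul_left (hy y)).eq
  · intro x
    rw [hy x, mul_inv_cancel_right, mul_inv_cancel]
    exact C.inPhi_one

/-- An element stabilising `1 < Φ(B) < B` lies in `B`. -/
theorem mem_range_of_stable [Finite S] {g : S}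
    (hcomm : ∀ x, C.InPhi (g * C.ι x * g⁻¹ * (C.ι x)⁻¹)) : g ∈ C.ι.range := by
  have hfix : ∀ f, C.InPhi f → g * f = f * g := by
    have hrr : ∀ x : D × D, g * C.ι (x * x) * g⁻¹ = C.ι (x * x) := fun x => by
      set c := g * C.ι x * g⁻¹ * (C.ι x)⁻¹ with hc
      have h1 : g * C.ι x * g⁻¹ = c * C.ι x := by rw [hc, inv_mul_cancel_right]
      have h3 : c * C.ι x = C.ι x * c := C.inPhi_comm (hcomm x) x
      calc g * C.ι (x * x) * g⁻¹ = g * C.ι x * g⁻¹ * (g * C.ι x * g⁻¹) := by rw [map_mul]; group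
        _ = c * (C.ι x * c) * C.ι x := by rw [h1]; simp only [mul_assoc]
        _ = c * c * (C.ι x * C.ι x) := by rw [← h3]; simp only [mul_assoc]
        _ = C.ι (x * x) := by rw [C.inPhi_sq (hcomm x), one_mul, map_mul]
    intro f hf
    obtain ⟨a, b, ha, hb, rfl⟩ := hf
    have key : ∀ a : D, Cen a → ∃ s, s * s = a := by decide
    obtain ⟨s, hs⟩ := key a ha
    obtain ⟨t, ht⟩ := key b hb
    have := hrr (s, t)
    rw [Prod.mk_mul_mk, hs, ht, mul_inv_eq_iff_eq_mul] at this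
    exact this
  have h2c : ∀ x, g * g * C.ι x = C.ι x * (g * g) := fun x => by
    set c := g * C.ι x * g⁻¹ * (C.ι x)⁻¹ with hc
    have h1 : g * C.ι x = c * C.ι x * g := by rw [hc]; group
    calc g * g * C.ι x = g * (c * C.ι x * g) := by rw [mul_assoc, h1]
      _ = c * (g * C.ι x) * g := by rw [← mul_assoc, ← mul_assoc, hfix c (hcomm x), mul_assoc c g]
      _ = c * c * (C.ι x * (g * g)) := by rw [h1]; simp only [mul_assoc]
      _ = C.ι x * (g * g) := by rw [C.inPhi_sq (hcomm x), one_mul]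
  exact C.mem_range_of_section hfix (C.inPhi_of_centralizes h2c) hcomm

end Ctx

end Cfsg.Agent.H42.DWr
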